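import Mathlib
import Cfsg.Agent.H206.PspFix
import Cfsg.Agent.GH.Cov.SpData
import Cfsg.Agent.Lib.AutSL2Out

/-!
# S4829, `Sp₄(2^f)`: the conjugates of a field automorphism (helper193)

* `dec` : every automorphism is `conj s * phi τ` or `gamma * conj s * phi τ`;
* `gamma_phi` : `gamma` commutes with the field automorphisms;
* `conj_frob` : `a * phi σ * a⁻¹ = conj s * phi σ * (conj s)⁻¹` for some `s`.
-/

set_option autoImplicit false

namespace Cfsg.Agent.H193.SZ

open Cfsg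
open scoped Matrix
open Cfsg.Agent.ClassicalGeometry.SympBasic Cfsg.Agent.ClassicalGeometry.SympAutSemi
  Cfsg.Agent.ClassicalGeometry.SympGamma Cfsg.Agent.ClassicalGeometry.SympAutExists
  Cfsg.Agent.ClassicalGeometry.Sp4Graph Cfsg.Agent.ClassicalGeometry.Sp4GraphAut
open Cfsg.Agent.H206.PspFix

universe u

variable {F : Type u} [Field F]

/-- the matrix of the conjugate by a field automorphism -/
theorem conjHom_frob_coe (m : ℕ) (σ : F ≃+* F) (A : Matrix.symplecticGroup (Fin m) F) :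
    (conjHom m F (frobHom m F σ) A : Matrix (Fin m ⊕ Fin m) (Fin m ⊕ Fin m) F) =
      (A : Matrix (Fin m ⊕ Fin m) (Fin m ⊕ Fin m) F).map σ := by
  rw [← Matrix.mulVec_injective.eq_iff]
  funext v
  have h1 := DFunLike.congr_fun (rho_conjHom (frobHom m F σ) A) v
  rw [rho_apply] at h1
  rw [h1]
  funext i
  show σ (((A : Matrix (Fin m ⊕ Fin m) (Fin m ⊕ Fin m) F) *ᵥ (fun j => σ.symm (v j))) i) = _
  simp only [Matrix.mulVec, dotProduct, map_sum, map_mul, RingEquiv.apply_symm_apply, Matrix.map_apply]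

theorem mn_map {R : Type*} [CommRing R] (σ : R ≃+* R) (A : Matrix I4 I4 R) : mn (A.map σ) = (mn A).map σ := by
  ext i j
  rw [Matrix.map_apply, mn_apply, mn_apply]
  simp only [Matrix.map_apply, map_add, map_mul]

/-- `gamma` commutes with the field automorphisms -/
theorem gamma_phi [Finite F] [CharP F 2] (σ : F ≃+* F) : gamma F * phi 2 F σ = phi 2 F σ * gamma F := by
  ext x
  obtain ⟨A, rfl⟩ := pr_surj x
  show gamma F (phi 2 F σ (QuotientGroup.mk A)) = phi 2 F σ (gamma F (QuotientGroup.mk A))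
  have h1 : phi 2 F σ (QuotientGroup.mk A) = QuotientGroup.mk (conjHom 2 F (frobHom 2 F σ) A) := rfl
  have h2 : phi 2 F σ (QuotientGroup.mk (graphHom F A)) =
      QuotientGroup.mk (conjHom 2 F (frobHom 2 F σ) (graphHom F A)) := rfl
  rw [h1, gamma_mk, gamma_mk, h2]
  congr 1
  apply Subtype.ext
  rw [graphHom_coe, conjHom_frob_coe, conjHom_frob_coe, graphHom_coe, mn_map]

/-- a semisimilitude is inner times a field automorphism in characteristic two -/
theorem psi_dec [Finite F] [CharP F 2] (g : semiSim 2 F) :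
    ∃ (s : PSp 2 F) (τ : F ≃+* F), Psi 2 F g = MulAut.conj s * phi 2 F τ := by
  obtain ⟨σ, μ, hμ, hs⟩ := g.2
  have ht := isSemi_frobPerm (m := 2) (F := F) σ
  have h1 := hs.mul (ht.inv one_ne_zero)
  have hval : ∀ c, ((σ.symm).trans σ : F ≃+* F) c = c := fun c => σ.apply_symm_apply c
  have hm : μ * σ (σ.symm (1 : F)⁻¹) = μ := by simp
  rw [hm] at h1
  obtain ⟨r, hr⟩ : ∃ r, μ = r * r := by
    have := Fintype.ofFinite F
    exact FiniteField.isSquare_of_char_two (ringChar.eq F 2) μ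
  rw [hr] at h1 hμ
  have hr0 : r ≠ 0 := left_ne_zero_of_mul hμ
  have hri : r⁻¹ ≠ 0 := inv_ne_zero hr0
  have h5 := (Cfsg.Agent.GH.Cov.SpData.isSemi_scal hri).mul h1
  have e : (r⁻¹ * r⁻¹ * (RingEquiv.refl F) (r * r)) = 1 := by
    change r⁻¹ * r⁻¹ * (r * r) = 1
    field_simp
  rw [e] at h5
  obtain ⟨x, hx⟩ := Cfsg.Agent.GH.Cov.SpData.inn_of_linear
    (g := Cfsg.Agent.GH.Cov.SpData.scal hri * (g * (frobHom 2 F σ)⁻¹)) h5 (fun c => hval c)
  refine ⟨x, σ, ?_⟩
  rw [← hx, map_mul, Cfsg.Agent.GH.Cov.SpData.Psi_scal, one_mul, map_mul, map_inv]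
  show Psi 2 F g = Psi 2 F g * (Psi 2 F (frobHom 2 F σ))⁻¹ * Psi 2 F (frobHom 2 F σ)
  rw [inv_mul_cancel_right]

theorem exists_ne [Finite F] (hF : 2 < Nat.card F) : ∃ t : F, t ≠ 0 ∧ t ≠ 1 := by
  by_contra hcon
  push Not at hcon
  classical
  have : Fintype F := Fintype.ofFinite F
  rw [Nat.card_eq_fintype_card, ← Finset.card_univ] at hF
  have h4 : (Finset.univ : Finset F) ⊆ {0, 1} := by
    intro t _
    by_cases ht : t = 0
    · simp [ht]
    · simp [hcon t ht]
  have := (Finset.card_le_card h4).trans Finset.card_le_two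
  omega

/-- every automorphism of `PSp₄(2^f)`, `f ≥ 2` -/
theorem dec [Finite F] [CharP F 2] (hF : 2 < Nat.card F) (a : MulAut (PSp 2 F)) :
    ∃ (s : PSp 2 F) (τ : F ≃+* F), a = MulAut.conj s * phi 2 F τ ∨ a = gamma F * (MulAut.conj s * phi 2 F τ) := by
  have h2 := Cfsg.Agent.ClassicalGeometry.SympAutTwo.index_two (exists_ne hF) (fun α hα => exists_semi le_rfl α hα)
  by_cases ha : a ∈ (Psi 2 F).range
  · obtain ⟨g, rfl⟩ := ha
    obtain ⟨s, τ, h⟩ := psi_dec g
    exact ⟨s, τ, Or.inl h⟩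
  · have hg : gamma F ∉ (Psi 2 F).range := by
      rintro ⟨g, hg⟩
      obtain ⟨w, -, d, -, h1⟩ := pres_Psi g (e1 F) e1_ne_zero 1 one_ne_zero
      rw [hg] at h1
      exact gamma_transv_ne one_ne_zero w d h1
    have h3 : (gamma F)⁻¹ * a ∈ (Psi 2 F).range := by
      rw [Subgroup.mul_mem_iff_of_index_two h2]
      constructor
      · intro h4
        exact absurd (by simpa using inv_mem h4) hg
      · intro h4
        exact absurd h4 ha
    obtain ⟨g, hg'⟩ := h3
    obtain ⟨s, τ, h⟩ := psi_dec g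
    refine ⟨s, τ, Or.inr ?_⟩
    rw [← h, hg', mul_inv_cancel_left]

theorem phi_comm [Finite F] (σ τ : F ≃+* F) : phi 2 F τ * phi 2 F σ = phi 2 F σ * phi 2 F τ := by
  rw [← map_mul, ← map_mul]
  congr 1
  ext c
  exact congrArg (fun e : F ≃+* F => e c) (Cfsg.Agent.Lib.AutSL2Out.ringEquiv_comm τ σ)

/-- **the conjugates of a field automorphism** -/
theorem conj_frob [Finite F] [CharP F 2] (hF : 2 < Nat.card F) (σ : F ≃+* F) (a : MulAut (PSp 2 F)) :
    ∃ s : PSp 2 F, a * phi 2 F σ * a⁻¹ = MulAut.conj s * phi 2 F σ * (MulAut.conj s)⁻¹ := by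
  have hmove : ∀ (γ : MulAut (PSp 2 F)) (s : PSp 2 F), γ * MulAut.conj s * γ⁻¹ = MulAut.conj (γ s) := by
    intro γ s
    ext x
    simp only [MulAut.mul_apply, MulAut.conj_apply, map_mul, map_inv, MulAut.apply_inv_self]
  obtain ⟨s, τ, h | h⟩ := dec hF a
  · refine ⟨s, ?_⟩
    rw [h]
    have h1 := phi_comm σ τ
    calc MulAut.conj s * phi 2 F τ * phi 2 F σ * (MulAut.conj s * phi 2 F τ)⁻¹
        = MulAut.conj s * (phi 2 F τ * phi 2 F σ) * (phi 2 F τ)⁻¹ * (MulAut.conj s)⁻¹ := by group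
      _ = _ := by rw [h1]; group
  · refine ⟨gamma F s, ?_⟩
    rw [h, ← hmove]
    have h1 := phi_comm σ τ
    have h2 := gamma_phi σ
    have h3 : gamma F * phi 2 F σ * (gamma F)⁻¹ = phi 2 F σ := by rw [h2]; group
    calc gamma F * (MulAut.conj s * phi 2 F τ) * phi 2 F σ * (gamma F * (MulAut.conj s * phi 2 F τ))⁻¹
        = gamma F * MulAut.conj s * (phi 2 F τ * phi 2 F σ) * (phi 2 F τ)⁻¹ * (MulAut.conj s)⁻¹ * (gamma F)⁻¹ := by
          group
      _ = gamma F * MulAut.conj s * phi 2 F σ * (MulAut.conj s)⁻¹ * (gamma F)⁻¹ := by rw [h1]; group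
      _ = (gamma F * MulAut.conj s * (gamma F)⁻¹) * (gamma F * phi 2 F σ * (gamma F)⁻¹) *
            (gamma F * MulAut.conj s * (gamma F)⁻¹)⁻¹ := by group
      _ = _ := by rw [h3]

end Cfsg.Agent.H193.SZ
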