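import Mathlib
import Cfsg.Agent.H769.OZ.SpIso

/-!
# S4829, `Sp₄(2^f)`: subspaces stable under a field automorphism of order two (helper193)

* `card_fix` : `|U^σ|² = |U|`;
* `not_stable` : an element of prime order `r ∣ |F| + 1` commuting with `σ` stabilises no `σ`-stable `U ≠ ⊥` of dimension `≤ 2`;
* `not_stable_three` : no totally isotropic `U ≠ ⊥` is stable under `σ` and the two elements of order three.
-/

set_option autoImplicit false

namespace Cfsg.Agent.H193.SZ

open Module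

variable {F : Type*} [Field F] {ι : Type*}

/-- the semilinear map of coordinates -/
def fr (σ : F ≃+* F) (v : ι → F) : ι → F := fun i => σ (v i)

theorem fr_apply (σ : F ≃+* F) (v : ι → F) (i : ι) : fr σ v i = σ (v i) := rfl

theorem fr_add (σ : F ≃+* F) (v w : ι → F) : fr σ (v + w) = fr σ v + fr σ w := funext fun _ => map_add σ _ _

theorem fr_smul (σ : F ≃+* F) (c : F) (v : ι → F) : fr σ (c • v) = σ c • fr σ v := funext fun _ => map_mul σ _ _

theorem fr_zero (σ : F ≃+* F) : fr σ (0 : ι → F) = 0 := funext fun _ => map_zero σ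

theorem fr_fr {σ : F ≃+* F} (h2 : σ * σ = 1) (v : ι → F) : fr σ (fr σ v) = v :=
  funext fun i => DFunLike.congr_fun h2 (v i)

section Card

variable [CharP F 2] {σ : F ≃+* F} (h2 : σ * σ = 1) (h1 : σ ≠ 1)

include h1 in
theorem exists_theta : ∃ θ : F, θ + σ θ ≠ 0 := by
  by_contra hcon
  push Not at hcon
  apply h1
  ext c
  have h := hcon c
  show σ c = c
  exact (CharTwo.add_eq_zero.1 h).symm

include h2 h1 in
/-- the fixed points of `σ` on a stable subspace -/
theorem card_fix (U : Submodule F (ι → F)) (hU : ∀ u ∈ U, fr σ u ∈ U) :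
    Nat.card {u : ι → F // u ∈ U ∧ fr σ u = u} ^ 2 = Nat.card U := by
  obtain ⟨θ, hθ⟩ := exists_theta h1
  have hss : ∀ c, σ (σ c) = c := fun c => DFunLike.congr_fun h2 c
  set δ := θ + σ θ with hδ
  have hδs : σ δ = δ := by rw [hδ, map_add, hss, add_comm]
  let f : {u : ι → F // u ∈ U ∧ fr σ u = u} × {u : ι → F // u ∈ U ∧ fr σ u = u} → U :=
    fun p => ⟨p.1.1 + θ • p.2.1, U.add_mem p.1.2.1 (U.smul_mem _ p.2.2.1)⟩
  have hf : Function.Bijective f := by
    constructor
    · rintro ⟨a, b⟩ ⟨a', b'⟩ h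
      have h3 : a.1 + θ • b.1 = a'.1 + θ • b'.1 := congrArg Subtype.val h
      have h4 : a.1 + σ θ • b.1 = a'.1 + σ θ • b'.1 := by
        have := congrArg (fr σ) h3
        rwa [fr_add, fr_add, fr_smul, fr_smul, a.2.2, b.2.2, a'.2.2, b'.2.2] at this
      have h5 : δ • b.1 = δ • b'.1 := by
        rw [hδ, add_smul, add_smul]
        have h6 : (θ • b.1 + σ θ • b.1) - (θ • b'.1 + σ θ • b'.1) =
            ((a.1 + θ • b.1) - (a'.1 + θ • b'.1)) - ((a.1 + σ θ • b.1) - (a'.1 + σ θ • b'.1)) +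
            2 • (σ θ • b.1 - σ θ • b'.1) := by
          module
        rw [← sub_eq_zero, h6, h3, h4]
        simp only [sub_self, zero_add]
        rw [two_nsmul]
        ext i
        exact CharTwo.add_self_eq_zero _
      have h6 : b = b' := by
        apply Subtype.ext
        have := congrArg (fun v => δ⁻¹ • v) h5
        simpa [smul_smul, inv_mul_cancel₀ hθ] using this
      subst h6
      have h7 : a = a' := Subtype.ext (add_right_cancel h3)
      rw [h7]
    · intro u
      have hb : fr σ (δ⁻¹ • (u.1 + fr σ u.1)) = δ⁻¹ • (u.1 + fr σ u.1) := by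
        rw [fr_smul, fr_add, fr_fr h2, map_inv₀, hδs, add_comm]
      refine ⟨⟨⟨u.1 + θ • (δ⁻¹ • (u.1 + fr σ u.1)), ?_, ?_⟩, ⟨δ⁻¹ • (u.1 + fr σ u.1), ?_, hb⟩⟩, ?_⟩
      · exact U.add_mem u.2 (U.smul_mem _ (U.smul_mem _ (U.add_mem u.2 (hU _ u.2))))
      · rw [fr_add, fr_smul, hb]
        ext i
        simp only [Pi.add_apply, Pi.smul_apply, smul_eq_mul, fr_apply]
        have h3 : (θ + σ θ) * (δ⁻¹ * (u.1 i + σ (u.1 i))) = u.1 i + σ (u.1 i) := by
          rw [← hδ, mul_inv_cancel_left₀ hθ]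
        have h4 : σ θ * (δ⁻¹ * (u.1 i + σ (u.1 i))) = u.1 i + σ (u.1 i) + θ * (δ⁻¹ * (u.1 i + σ (u.1 i))) := by
          have h5 := CharTwo.add_self_eq_zero (θ * (δ⁻¹ * (u.1 i + σ (u.1 i))))
          linear_combination h3 - h5
        rw [h4]
        have h5 := CharTwo.add_self_eq_zero (σ (u.1 i))
        linear_combination h5
      · exact U.smul_mem _ (U.add_mem u.2 (hU _ u.2))
      · apply Subtype.ext
        ext i
        show u.1 i + θ * (δ⁻¹ • (u.1 + fr σ u.1)) i + θ * (δ⁻¹ • (u.1 + fr σ u.1)) i = u.1 i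
        rw [add_assoc, CharTwo.add_self_eq_zero, add_zero]
  have h3 := Nat.card_congr (Equiv.ofBijective f hf)
  rw [Nat.card_prod] at h3
  rw [sq, h3]

include h2 h1 in
theorem exists_q0 [Finite F] : ∃ q0 : ℕ, q0 ^ 2 = Nat.card F ∧
    (∀ (m : ℕ) (U : Submodule F (Fin m → F)), True) ∧
    ∀ {κ : Type} [Finite κ] (U : Submodule F (κ → F)), (∀ u ∈ U, fr σ u ∈ U) →
      Nat.card {u : κ → F // u ∈ U ∧ fr σ u = u} = q0 ^ finrank F U := by
  have h3 := card_fix h2 h1 (ι := Unit) ⊤ (fun u _ => Submodule.mem_top)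
  have h4 : Nat.card (⊤ : Submodule F (Unit → F)) = Nat.card F := by
    rw [Nat.card_congr (Submodule.topEquiv (R := F) (M := Unit → F)).toEquiv]
    exact Nat.card_congr (Equiv.funUnique Unit F)
  refine ⟨_, h3.trans h4, fun _ _ => trivial, fun {κ} _ U hU => ?_⟩
  have h5 := card_fix h2 h1 U hU
  have : Fintype κ := Fintype.ofFinite κ
  have h6 : Nat.card U = Nat.card F ^ finrank F U := Module.natCard_eq_pow_finrank
  rw [h6, ← h3.trans h4, ← pow_mul, mul_comm 2, pow_mul] at h5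
  exact Nat.pow_left_injective (n := 2) (by norm_num) h5

end Card

section Stable

variable [Finite F] [CharP F 2] {σ : F ≃+* F} (h2 : σ * σ = 1) (h1 : σ ≠ 1)

local notation "V" => (Fin 2 ⊕ Fin 2 → F)

/-- the fixed space of `t` in `U` -/
def fx (t : V ≃ₗ[F] V) (U : Submodule F V) : Submodule F V where
  carrier := {v | v ∈ U ∧ t v = v}
  add_mem' {a b} ha hb := ⟨U.add_mem ha.1 hb.1, by rw [map_add, ha.2, hb.2]⟩
  zero_mem' := ⟨U.zero_mem, map_zero t⟩
  smul_mem' c a ha := ⟨U.smul_mem c ha.1, by rw [map_smul, ha.2]⟩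

omit [Finite F] [CharP F 2] in
theorem mem_fx {t : V ≃ₗ[F] V} {U : Submodule F V} {v : V} : v ∈ fx t U ↔ v ∈ U ∧ t v = v := Iff.rfl

include h2 h1 in
theorem four_dvd {r : ℕ} [hr : Fact r.Prime] (hr1 : r ∣ Nat.card F + 1) (t : V ≃ₗ[F] V) (htr : t ^ r = 1)
    (htσ : ∀ v, t (fr σ v) = fr σ (t v)) (U : Submodule F V) (hUσ : ∀ u ∈ U, fr σ u ∈ U) (hUt : ∀ u ∈ U, t u ∈ U) :
    4 ∣ finrank F U - finrank F (fx t U) := by
  obtain ⟨q0, hq0, -, hq⟩ := exists_q0 h2 h1
  have hodd : r ≠ 2 := by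
    rintro rfl
    have h3 : 2 ∣ Nat.card F := by
      have := Fintype.ofFinite F
      obtain ⟨n, -, hn⟩ := FiniteField.card F 2
      rw [Nat.card_eq_fintype_card, hn]
      exact dvd_pow_self 2 n.2.ne'
    omega
  have hfx : ∀ u ∈ fx t U, fr σ u ∈ fx t U := fun u hu => ⟨hUσ u hu.1, by rw [htσ, hu.2]⟩
  -- the action of `t` on the fixed points of `σ`
  let X := {u : V // u ∈ U ∧ fr σ u = u}
  let act : MulAction (Multiplicative (ZMod r)) X := by
    have hpow : ∀ (k : ℕ) (u : V), u ∈ U ∧ fr σ u = u → (t ^ k) u ∈ U ∧ fr σ ((t ^ k) u) = (t ^ k) u := by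
      intro k
      induction k with
      | zero => intro u hu; simpa using hu
      | succ k ih =>
        intro u hu
        rw [pow_succ]
        exact ih (t u) ⟨hUt u hu.1, by rw [← htσ, hu.2]⟩
    exact
    { smul := fun k u => ⟨(t ^ (Multiplicative.toAdd k).val) u.1, hpow _ u.1 u.2⟩
      one_smul := by
        intro u
        apply Subtype.ext
        show (t ^ ((0 : ZMod r)).val) u.1 = u.1
        rw [ZMod.val_zero, pow_zero]
        rfl
      mul_smul := by
        intro k l u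
        apply Subtype.ext
        show (t ^ (Multiplicative.toAdd k + Multiplicative.toAdd l).val) u.1 =
          (t ^ (Multiplicative.toAdd k).val) ((t ^ (Multiplicative.toAdd l).val) u.1)
        rw [ZMod.val_add, ← pow_eq_pow_mod _ htr, pow_add]
        rfl }
  have hp : IsPGroup r (Multiplicative (ZMod r)) := by
    apply IsPGroup.of_card (n := 1)
    rw [pow_one]
    exact Nat.card_zmod r
  have h3 := hp.card_modEq_card_fixedPoints X
  have h4 : Nat.card (MulAction.fixedPoints (Multiplicative (ZMod r)) X) =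
      Nat.card {u : V // u ∈ fx t U ∧ fr σ u = u} := by
    refine Nat.card_congr ⟨fun u => ⟨u.1.1, ⟨u.1.2.1, ?_⟩, u.1.2.2⟩, fun u => ⟨⟨u.1, u.2.1.1, u.2.2⟩, ?_⟩, fun u => rfl,
      fun u => rfl⟩
    · have h5 := u.2 (Multiplicative.ofAdd 1)
      have h6 : (t ^ ((1 : ZMod r)).val) u.1.1 = u.1.1 := congrArg Subtype.val h5
      have : Fact (1 < r) := ⟨hr.out.one_lt⟩
      rwa [ZMod.val_one, pow_one] at h6
    · intro k
      apply Subtype.ext
      show (t ^ (Multiplicative.toAdd k).val) u.1 = u.1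
      have h5 : ∀ n : ℕ, (t ^ n) u.1 = u.1 := by
        intro n
        induction n with
        | zero => rfl
        | succ n ih =>
          rw [pow_succ]
          show (t ^ n) (t u.1) = u.1
          rw [u.2.1.2, ih]
      exact h5 _
  rw [h4, hq _ hUσ, hq _ hfx] at h3
  have hle : finrank F (fx t U) ≤ finrank F U := Submodule.finrank_mono fun v hv => hv.1
  have hrq : r ∣ q0 ^ 2 + 1 := hq0 ▸ hr1
  have h5 : ((q0 : ℕ) : ZMod r) ^ (finrank F U - finrank F (fx t U)) = 1 := by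
    have h6 : ((q0 : ℕ) : ZMod r) ^ finrank F U = ((q0 : ℕ) : ZMod r) ^ finrank F (fx t U) := by
      have := (ZMod.natCast_eq_natCast_iff _ _ _).2 h3
      exact_mod_cast this
    have h7 : ((q0 : ℕ) : ZMod r) ≠ 0 := by
      intro h8
      have h9 := (ZMod.natCast_eq_zero_iff q0 r).1 h8
      have h10 : r ∣ 1 := (Nat.dvd_add_right (dvd_pow h9 two_ne_zero)).1 hrq
      exact hr.out.one_lt.ne' (Nat.dvd_one.1 h10)
    have h8 : ((q0 : ℕ) : ZMod r) ^ finrank F (fx t U) *
        ((q0 : ℕ) : ZMod r) ^ (finrank F U - finrank F (fx t U)) = ((q0 : ℕ) : ZMod r) ^ finrank F (fx t U) := by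
      rw [← pow_add, Nat.add_sub_cancel' hle, h6]
    exact mul_left_cancel₀ (pow_ne_zero _ h7) (by rw [h8, mul_one])
  have h6 := H769.OZ.order_four hr.out hodd hrq
  rw [← h6]
  exact orderOf_dvd_of_pow_eq_one h5

include h2 h1 in
/-- no stable subspaces of dimension one and two -/
theorem not_stable_prime {r : ℕ} [hr : Fact r.Prime] (hr1 : r ∣ Nat.card F + 1) (t : V ≃ₗ[F] V) (htr : t ^ r = 1)
    (ht1 : t ≠ 1) (htσ : ∀ v, t (fr σ v) = fr σ (t v)) (U : Submodule F V) (hUσ : ∀ u ∈ U, fr σ u ∈ U)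
    (hUt : ∀ u ∈ U, t u ∈ U) (hU0 : U ≠ ⊥) (hU : finrank F U ≤ 2) : False := by
  have h3 := four_dvd h2 h1 hr1 t htr htσ U hUσ hUt
  have h4 := four_dvd h2 h1 hr1 t htr htσ ⊤ (fun u _ => Submodule.mem_top) (fun u _ => Submodule.mem_top)
  have hle : finrank F (fx t U) ≤ finrank F U := Submodule.finrank_mono fun v hv => hv.1
  have h5 : finrank F (fx t U) = finrank F U := by
    have : finrank F U - finrank F (fx t U) = 0 := Nat.eq_zero_of_dvd_of_lt h3 (by omega)
    omega
  have h6 : fx t U = U := Submodule.eq_of_le_of_finrank_eq (fun v hv => hv.1) h5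
  have h7 : finrank F (⊤ : Submodule F V) = 4 := by
    rw [finrank_top, Module.finrank_fintype_fun_eq_card]
    rfl
  have h8 : U ≤ fx t ⊤ := fun u hu => ⟨Submodule.mem_top, (show u ∈ fx t U by rw [h6]; exact hu).2⟩
  have h9 : 0 < finrank F (fx t ⊤) := by
    have h10 : 0 < finrank F U := by
      rw [Nat.pos_iff_ne_zero, Ne, Submodule.finrank_eq_zero]
      exact hU0
    exact h10.trans_le (Submodule.finrank_mono h8)
  rw [h7] at h4
  have h10 : finrank F (fx t ⊤) = finrank F (⊤ : Submodule F V) := by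
    have h11 : 4 - finrank F (fx t ⊤) = 0 := Nat.eq_zero_of_dvd_of_lt h4 (by omega)
    have h12 : finrank F (fx t ⊤) ≤ finrank F (⊤ : Submodule F V) := Submodule.finrank_mono le_top
    omega
  have h11 : fx t ⊤ = ⊤ := Submodule.eq_of_le_of_finrank_eq le_top h10
  apply ht1
  ext1 v
  have h12 : v ∈ fx t ⊤ := by
    rw [h11]
    exact Submodule.mem_top
  exact h12.2

include h2 h1 in
theorem not_stable (t : V ≃ₗ[F] V) (ht : orderOf t ∣ Nat.card F + 1)
    (ht1 : t ≠ 1) (htσ : ∀ v, t (fr σ v) = fr σ (t v)) (U : Submodule F V) (hUσ : ∀ u ∈ U, fr σ u ∈ U)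
    (hUt : ∀ u ∈ U, t u ∈ U) (hU0 : U ≠ ⊥) (hU : finrank F U ≤ 2) : False := by
  have hord : orderOf t ≠ 1 := fun h => ht1 (orderOf_eq_one_iff.1 h)
  have hpos : 0 < orderOf t := Nat.pos_of_dvd_of_pos ht (Nat.succ_pos _)
  obtain ⟨r, hr, hrd⟩ := Nat.exists_prime_and_dvd hord
  have : Fact r.Prime := ⟨hr⟩
  obtain ⟨m, hm⟩ := hrd
  have hm0 : 0 < m := by
    rcases Nat.eq_zero_or_pos m with h | h
    · rw [h, mul_zero] at hm
      omega
    · exact h
  refine not_stable_prime h2 h1 (r := r) ((Dvd.intro m hm.symm).trans ht) (t ^ m) ?_ ?_ ?_ U hUσ ?_ hU0 hU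
  · rw [← pow_mul, mul_comm, ← hm, pow_orderOf_eq_one]
  · intro h3
    have h4 := Nat.le_of_dvd hm0 (orderOf_dvd_of_pow_eq_one h3)
    have h5 := hr.two_le
    nlinarith
  · intro v
    have h3 : ∀ n : ℕ, (t ^ n) (fr σ v) = fr σ ((t ^ n) v) := by
      intro n
      induction n with
      | zero => rfl
      | succ n ih =>
        rw [pow_succ']
        show t ((t ^ n) (fr σ v)) = fr σ (t ((t ^ n) v))
        rw [ih, htσ]
    exact h3 m
  · intro u hu
    have h3 : ∀ n : ℕ, (t ^ n) u ∈ U := by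
      intro n
      induction n with
      | zero => exact hu
      | succ n ih =>
        rw [pow_succ']
        exact hUt _ ih
    exact h3 m

end Stable

end Cfsg.Agent.H193.SZ
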