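import Mathlib
import Cfsg.Agent.H193.SZ.Geo
import Cfsg.Agent.H193.SZ.ConjFrob
import Cfsg.Agent.H769.OZ.Levi
import Cfsg.Agent.H148.SP.Main

/-!
# S4829, `Sp₄(2^f)`: (G1) no proper residue is fixed by `t φ` (helper193)
-/

set_option autoImplicit false
set_option linter.unusedSectionVars false

namespace Cfsg.Agent.H193.SZ

open Cfsg Cfsg.Agent.ClassicalGeometry.SympBasic Cfsg.Agent.ClassicalGeometry.SympAutSemi
open Cfsg.Agent.ChevalleyStructure.CoxeterGeom Cfsg.Agent.Tits.Roots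
open Cfsg.Agent.Nodes Cfsg.Agent.Nodes.TypeC Cfsg.Agent.Nodes.WittRoot Cfsg.Agent.Nodes.WittRGD Cfsg.Agent.Nodes.WittAll
  Cfsg.Agent.Nodes.WittU
open Cfsg.Agent.Nodes.Comb Cfsg.Agent.Nodes.Reps Cfsg.Agent.Nodes.BNOf Cfsg.Agent.Nodes.RGDLib Cfsg.Agent.Nodes.Bruhat
  Cfsg.Agent.Nodes.StabComb Cfsg.Agent.Nodes.LeviDec
open Cfsg.Agent.TitsThree Cfsg.Agent.TitsThree.Siegel Cfsg.Agent.TitsThree.WittFrame
  Cfsg.Agent.TitsThree.WittWeyl Cfsg.Agent.TitsThree.SpIdent Cfsg.Agent.TitsThree.FrameCN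
open Cfsg.Agent.H769.OZ Module
open Cfsg.Agent.H206.PspFix
open scoped Matrix

variable {F : Type*} [Field F]

local notation "V" => (Fin 2 ⊕ Fin 2 → F)

/-- membership in a maximal parabolic subgroup -/
theorem mk_mem_PJ_iff [Finite F] [CharP F 2] {W : Type*} [Group W] (cs : CoxeterSystem (CoxeterMatrix.B 2) W)
    (k : Fin 2) (A : Matrix.symplecticGroup (Fin 2) F) :
    (QuotientGroup.mk A : PSp 2 F) ∈ PJ cs (isCartan 2) (WittModel.T (KInstSp.model 2 F))
      (WittModel.X (KInstSp.model 2 F)) {k}ᶜ ↔ ofSp A ∈ StE (E (frame 2 F) k true) := by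
  have : Fact (Nat.Prime 2) := ⟨Nat.prime_two⟩
  have h1 := phi_mem_PJ_iff (k := k) (KInstSp.model 2 F) cs (AmbT.of_amb (amb_Sp (F := F) (m := 2)) 2) (p0 := adm 1)
    one_ne_zero (H148.SP.GG_eq_top (by norm_num) cs) (g := ⟨ofSp A, ofSp_mem A⟩)
  have h2 : (KInstSp.model 2 F).φ ⟨ofSp A, ofSp_mem A⟩ = (QuotientGroup.mk A : PSp 2 F) := by
    show toPSp ⟨ofSp A, ofSp_mem A⟩ = _
    show (QuotientGroup.mk (toSp ⟨ofSp A, ofSp_mem A⟩) : PSp 2 F) = _
    rw [toSp_ofSp]
  rw [h2] at h1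
  exact h1

theorem fr_mem_E (σ : F ≃+* F) (k : Fin 2) {v : V} (hv : v ∈ E (frame 2 F) k true) :
    fr σ v ∈ E (frame 2 F) k true := by
  refine Submodule.span_induction (p := fun v _ => fr σ v ∈ E (frame 2 F) k true) ?_ ?_ ?_ ?_ hv
  · rintro _ ⟨i, hi, rfl⟩
    have h1 : fr σ ((frame 2 F).b (i, true)) = (frame 2 F).b (i, true) := by
      rw [frame_b_true]
      funext j
      rw [fr_apply]
      unfold e
      by_cases h : j = Sum.inr i
      · subst h; simp
      · rw [Pi.single_eq_of_ne h, map_zero]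
    rw [h1]
    exact b_mem_E hi true
  · rw [fr_zero]; exact zero_mem _
  · intro x y _ _ hx hy
    rw [fr_add]; exact add_mem hx hy
  · intro c x _ hx
    rw [fr_smul]; exact Submodule.smul_mem _ _ hx

theorem E_ne_bot (k : Fin 2) : E (frame 2 F) k true ≠ ⊥ := by
  intro h
  have h1 : (frame 2 F).b (0, true) ∈ E (frame 2 F) k true := b_mem_E (Fin.zero_le _) true
  rw [h, Submodule.mem_bot, frame_b_true] at h1
  have h2 := congrFun h1 (Sum.inr 0)
  simp [e] at h2

theorem finrank_E (k : Fin 2) : finrank F (E (frame 2 F) k true) ≤ 2 := by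
  have h1 : E (frame 2 F) k true ≤ Submodule.span F (Set.range fun i : Fin 2 => (frame 2 F).b (i, true)) := by
    refine Submodule.span_mono ?_
    rintro _ ⟨i, -, rfl⟩
    exact ⟨i, rfl⟩
  refine (Submodule.finrank_mono h1).trans ?_
  exact (finrank_range_le_card _).trans (by simp)

/-- the matrix of the conjugate by a field automorphism, on vectors -/
theorem conjHom_mulVec (σ : F ≃+* F) (A : Matrix.symplecticGroup (Fin 2) F) (v : V) :
    ((conjHom 2 F (frobHom 2 F σ) A : Matrix.symplecticGroup (Fin 2) F) :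
      Matrix (Fin 2 ⊕ Fin 2) (Fin 2 ⊕ Fin 2) F) *ᵥ fr σ v =
      fr σ ((A : Matrix (Fin 2 ⊕ Fin 2) (Fin 2 ⊕ Fin 2) F) *ᵥ v) := by
  rw [conjHom_frob_coe]
  funext i
  simp only [Matrix.mulVec, dotProduct, fr_apply, Matrix.map_apply, map_sum, map_mul]

theorem phi_mk (σ : F ≃+* F) (A : Matrix.symplecticGroup (Fin 2) F) :
    phi 2 F σ (QuotientGroup.mk A) = QuotientGroup.mk (conjHom 2 F (frobHom 2 F σ) A) := rfl

/-- **(G1)** -/
theorem gOne [Fintype F] [CharP F 2] {σ : F ≃+* F} (h2 : σ * σ = 1) (h1 : σ ≠ 1) {W : Type*} [Group W]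
    (cs : CoxeterSystem (CoxeterMatrix.B 2) W) (k : Fin 2) (y t : PSp 2 F) (ht : phi 2 F σ t = t) (ht1 : t ≠ 1)
    (hto : orderOf t ∣ Fintype.card F + 1) :
    y⁻¹ * t * phi 2 F σ y ∉ PJ cs (isCartan 2) (WittModel.T (KInstSp.model 2 F)) (WittModel.X (KInstSp.model 2 F))
      {k}ᶜ := by
  intro hmem
  obtain ⟨B, rfl⟩ := QuotientGroup.mk_surjective y
  obtain ⟨A, rfl⟩ := QuotientGroup.mk_surjective t
  have hA : conjHom 2 F (frobHom 2 F σ) A = A :=
    Cfsg.Agent.ClassicalGeometry.Sp4GraphAut.mk_injective (by norm_num) ht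
  rw [phi_mk, ← QuotientGroup.mk_inv, ← QuotientGroup.mk_mul, ← QuotientGroup.mk_mul, mk_mem_PJ_iff] at hmem
  set B' := conjHom 2 F (frobHom 2 F σ) B with hB'
  have hAσ : ∀ v : V, ofSp A (fr σ v) = fr σ (ofSp A v) := by
    intro v
    have h3 := conjHom_mulVec σ A v
    rw [hA] at h3
    exact h3
  have hBσ : ∀ v : V, ofSp B' (fr σ v) = fr σ (ofSp B v) := fun v => conjHom_mulVec σ B v
  have hmul : ∀ (C D : Matrix.symplecticGroup (Fin 2) F) (v : V), ofSp (C * D) v = ofSp C (ofSp D v) := by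
    intro C D v
    exact coe_mul_mulVec C D v
  -- the subspace
  set U : Submodule F V := (E (frame 2 F) k true).map (ofSp B : V →ₗ[F] V) with hU
  have hAfr : ∀ u ∈ U, ofSp A (fr σ u) ∈ U := by
    rintro _ ⟨e, he, rfl⟩
    have h3 : fr σ e ∈ E (frame 2 F) k true := fr_mem_E σ k he
    have h4 := (hmem (fr σ e)).2 h3
    refine ⟨_, h4, ?_⟩
    show ofSp B (ofSp (B⁻¹ * A * B') (fr σ e)) = ofSp A (fr σ (ofSp B e))
    rw [← hmul, ← hBσ, ← hmul]
    congr 1
    group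
  have hA2 : ∀ u ∈ U, ofSp (A * A) u ∈ U := by
    intro u hu
    have h3 := hAfr _ (hAfr u hu)
    rw [← hAσ, ← hmul] at h3
    rwa [fr_fr h2] at h3
  have hoA : orderOf A = orderOf (QuotientGroup.mk A : PSp 2 F) := by
    refine (orderOf_injective (QuotientGroup.mk' (Subgroup.center (Matrix.symplecticGroup (Fin 2) F))) ?_ A).symm
    intro C D h
    exact Cfsg.Agent.ClassicalGeometry.Sp4GraphAut.mk_injective (by norm_num) h
  have hodd : Odd (Fintype.card F + 1) := by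
    obtain ⟨n, -, hn⟩ := FiniteField.card F 2
    rw [hn]
    exact (Nat.even_pow.2 ⟨even_two, n.2.ne'⟩).add_one
  have hoddA : Odd (orderOf A) := by
    rw [hoA]
    exact Odd.of_dvd_nat hodd hto
  have hpow : ∀ (C : Matrix.symplecticGroup (Fin 2) F), (∀ u ∈ U, ofSp C u ∈ U) → ∀ (n : ℕ), ∀ u ∈ U,
      ofSp (C ^ n) u ∈ U := by
    intro C hC n
    induction n with
    | zero =>
      intro u hu
      have h3 : ofSp (C ^ 0) u = u := by
        rw [pow_zero, ofSp_apply, Submonoid.coe_one, Matrix.one_mulVec]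
      rwa [h3]
    | succ n ih =>
      intro u hu
      rw [pow_succ, hmul]
      exact ih _ (hC u hu)
  have hAU : ∀ u ∈ U, ofSp A u ∈ U := by
    intro u hu
    obtain ⟨j, hj⟩ := hoddA
    have h3 := hpow (A * A) hA2 (j + 1) u hu
    have h4 : (A * A) ^ (j + 1) = A := by
      rw [← sq, ← pow_mul, show 2 * (j + 1) = (2 * j + 1) + 1 by ring, pow_succ, ← hj, pow_orderOf_eq_one, one_mul]
    rwa [h4] at h3
  have hfr : ∀ u ∈ U, fr σ u ∈ U := by
    intro u hu
    have h3 := hpow A hAU (orderOf A - 1) _ (hAfr u hu)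
    rw [← hmul, ← pow_succ, Nat.sub_add_cancel hoddA.pos, pow_orderOf_eq_one] at h3
    have h4 : ofSp (1 : Matrix.symplecticGroup (Fin 2) F) (fr σ u) = fr σ u := by
      rw [ofSp_apply, Submonoid.coe_one, Matrix.one_mulVec]
    rwa [h4] at h3
  have hord : orderOf (ofSp A) = orderOf A := by
    have h3 : orderOf (⟨ofSp A, ofSp_mem A⟩ : isos (form 2 F)) = orderOf A := by
      rw [← orderOf_injective (toSp (m := 2) (F := F)) toSp_injective, toSp_ofSp]
    rw [← h3]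
    exact (Subgroup.orderOf_mk _ _).symm
  refine not_stable h2 h1 (ofSp A) ?_ ?_ hAσ U hfr hAU ?_ ?_
  · rw [hord, hoA, Nat.card_eq_fintype_card]
    exact hto
  · intro h3
    apply ht1
    have h4 : orderOf A = 1 := by rw [← hord, h3, orderOf_one]
    rw [orderOf_eq_one_iff.1 h4]
    rfl
  · rw [hU, Ne, Submodule.map_eq_bot_iff]
    exact E_ne_bot k
  · exact (Submodule.finrank_map_le _ _).trans (finrank_E k)

end Cfsg.Agent.H193.SZ
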